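import Groth.Agent.QCoh.Ab.Leray
import Groth.Agent.SiteBase.Kill

/-!
# Leray's theorem for a covering of an open subset
-/

universe u

open CategoryTheory CategoryTheory.Limits TopologicalSpace Opposite CategoryTheory.Abelian

namespace Groth.Agent.QCoh.Ab

variable {X : TopCat.{u}} {ι : Type u} (U : ι → Opens X) {V : Opens X}
variable {P Q : TopCat.Presheaf AddCommGrpCat.{u} X}

/-- The `0`-cochain of a section over the union. -/
noncomputable def ofV (hle : ∀ i, U i ≤ V) (P : TopCat.Presheaf AddCommGrpCat.{u} X) :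
    P.obj (op V) ⟶ (natCx P U).X 0 :=
  AddCommGrpCat.ofHom (AddMonoidHom.mk'
    (fun s => (⟨fun σ W => P.map (homOfLE ((W.2 0).trans (hle (σ 0)))).op s,
      fun σ W W' h h' i => map_map'' P _ _ _ s⟩ : natCochains P U 1))
    fun s t => Subtype.ext <| funext₂ fun σ W => map_add _ _ _)

theorem ofV_d (hle : ∀ i, U i ≤ V) (P : TopCat.Presheaf AddCommGrpCat.{u} X) :
    ofV U hle P ≫ (natCx P U).d 0 1 = 0 := by
  rw [natCx_d]
  refine AddCommGrpCat.ext fun s => Subtype.ext <| funext₂ fun σ W => ?_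
  show d (fun σ W => P.map (homOfLE ((W.2 0).trans (hle (σ 0)))).op s) σ W = 0
  refine (Fin.sum_univ_two _).trans ?_
  simp

/-- Sections over the union in `Ȟ⁰`. -/
noncomputable def vToH0 (hle : ∀ i, U i ≤ V) (P : TopCat.Presheaf AddCommGrpCat.{u} X) :
    P.obj (op V) ⟶ (natCx P U).homology 0 :=
  (natCx P U).liftCycles (ofV U hle P) 1 (by simp) (ofV_d U hle P) ≫ (natCx P U).homologyπ 0

theorem vToH0_naturality (hle : ∀ i, U i ≤ V) (φ : P ⟶ Q) :
    vToH0 U hle P ≫ HomologicalComplex.homologyMap (natCxMap U φ) 0 =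
      φ.app (op V) ≫ vToH0 U hle Q := by
  rw [vToH0, vToH0, Category.assoc, HomologicalComplex.homologyπ_naturality,
    HomologicalComplex.liftCycles_comp_cyclesMap_assoc, HomologicalComplex.comp_liftCycles_assoc]
  congr 2
  refine AddCommGrpCat.ext fun s => Subtype.ext <| funext₂ fun σ W => ?_
  exact congr($(φ.naturality (homOfLE ((W.2 0).trans (hle (σ 0)))).op) s)

theorem vToH0_bijective (F : CohTop.Ab X) (hle : ∀ i, U i ≤ V) (hcov : V ≤ ⨆ i, U i) :
    Function.Bijective (vToH0 U hle F.obj) := by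
  let K := natCx F.obj U
  have hπ : IsIso (K.homologyπ 0) := CochainComplex.isIso_homologyπ₀ K
  have hi : Function.Injective (K.iCycles 0) := (AddCommGrpCat.mono_iff_injective _).1 inferInstance
  let γ : F.obj.obj (op V) ⟶ K.cycles 0 :=
    K.liftCycles (ofV U hle F.obj) 1 (by simp) (ofV_d U hle _)
  have hγ : ∀ s, K.iCycles 0 (γ s) = ofV U hle F.obj s := fun s =>
    ConcreteCategory.congr_hom (K.liftCycles_i _ _ _ _) s
  suffices h : Function.Bijective γ by
    exact (ConcreteCategory.bijective_of_isIso (K.homologyπ 0)).comp h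
  refine ⟨fun s t hst => ?_, fun x => ?_⟩
  · refine TopCat.Sheaf.eq_of_locally_eq' F U V (fun i => homOfLE (hle i)) hcov s t fun i => ?_
    have e := congrArg (K.iCycles 0) hst
    rw [hγ, hγ] at e
    exact congrFun (congrFun (congrArg Subtype.val e) fun _ => i) ⟨U i, fun _ => le_rfl⟩
  · let c : natCochains F.obj U 1 := K.iCycles 0 x
    have hd : d c.1 = 0 := by
      have e := ConcreteCategory.congr_hom (K.iCycles_d 0 1) x
      rw [natCx_d] at e
      exact congrArg Subtype.val e
    obtain ⟨s, hs, -⟩ := TopCat.Sheaf.existsUnique_gluing' F U V (fun i => homOfLE (hle i)) hcov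
      (fun i => c.1 (fun _ => i) ⟨U i, fun _ => le_rfl⟩) (fun i j => by
        refine (c.2 (fun _ => i) (U i) (U i ⊓ U j) (fun _ => le_rfl) (fun _ => inf_le_left) _).trans
          (Eq.trans ?_ (c.2 (fun _ => j) (U j) (U i ⊓ U j) (fun _ => le_rfl)
            (fun _ => inf_le_right) _).symm)
        have hW : Le U ![i, j] (U i ⊓ U j) := Fin.forall_fin_two.2 ⟨inf_le_left, inf_le_right⟩
        have e' : d c.1 ![i, j] ⟨_, hW⟩ =
            c.1 (fun b => ![i, j] ((0 : Fin 2).succAbove b)) ⟨_, fun b => hW _⟩ -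
              c.1 (fun b => ![i, j] ((1 : Fin 2).succAbove b)) ⟨_, fun b => hW _⟩ := by
          refine (Fin.sum_univ_two _).trans ?_
          simp [sub_eq_add_neg]
        have e := sub_eq_zero.1 (e'.symm.trans (congrFun (congrFun hd ![i, j]) ⟨_, hW⟩))
        have congr' : ∀ (τ τ' : Fin 1 → ι) (_ : τ = τ') (h : Le U τ (U i ⊓ U j))
            (h' : Le U τ' (U i ⊓ U j)), c.1 τ ⟨_, h⟩ = c.1 τ' ⟨_, h'⟩ := by
          rintro _ _ rfl _ _; rfl
        exact (congr' (fun _ => i) (fun b => ![i, j] ((1 : Fin 2).succAbove b))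
            (funext fun k => by fin_cases k; rfl) _ _).trans
          (e.symm.trans (congr' (fun b => ![i, j] ((0 : Fin 2).succAbove b)) (fun _ => j)
            (funext fun k => by fin_cases k; rfl) _ _)))
    refine ⟨s, hi ((hγ s).trans (Subtype.ext <| funext₂ fun σ W => ?_))⟩
    show F.obj.map _ s = c.1 σ W
    obtain ⟨i, rfl⟩ : ∃ i, σ = fun _ => i := ⟨σ 0, funext fun k => by rw [show k = 0 from Fin.ext (by omega)]⟩
    refine (map_map'' F.obj (homOfLE (hle i)) (homOfLE (W.2 0)) _ s).symm.trans ?_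
    refine (congrArg _ (hs i)).trans ?_
    exact c.2 _ _ W.1 _ W.2 _

section connecting

variable {T : ShortComplex (CohTop.Ab X)}

/-- The connecting map on the cohomology of an open. -/
noncomputable def connectingU (hT : T.ShortExact) (n : ℕ) (V : Opens X) :
    Ext (CohCx.freeSheaf (Opens.grothendieckTopology X) V) T.X₃ n →+
      Ext (CohCx.freeSheaf (Opens.grothendieckTopology X) V) T.X₁ (n + 1) :=
  hT.extClass.postcomp _ rfl

theorem connectingU_surjective (hT : T.ShortExact) (n : ℕ)
    (h : Subsingleton (Ext (CohCx.freeSheaf (Opens.grothendieckTopology X) V) T.X₂ (n + 1))) :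
    Function.Surjective (connectingU hT n V) := fun x =>
  Ext.covariant_sequence_exact₁ _ hT x (Subsingleton.elim _ _) rfl

theorem connectingU_eq_zero_iff (hT : T.ShortExact) (n : ℕ)
    (x : Ext (CohCx.freeSheaf (Opens.grothendieckTopology X) V) T.X₃ n) :
    connectingU hT n V x = 0 ↔ ∃ y, Ext.comp y (Ext.mk₀ T.g) (add_zero n) = x := by
  refine ⟨fun h => Ext.covariant_sequence_exact₃ _ hT x rfl h, ?_⟩
  rintro ⟨y, rfl⟩
  show (y.comp (Ext.mk₀ T.g) (add_zero n)).comp hT.extClass rfl = 0
  rw [Ext.comp_assoc_of_second_deg_zero]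
  exact (congrArg (fun z => Ext.comp y z _) hT.comp_extClass).trans (Ext.comp_zero _ _ _ _ _)

end connecting

variable {U} in
/-- Čech cohomology of a covering of an open computes its cohomology. -/
theorem natCx_HU_equiv (hle : ∀ i, U i ≤ V) (hcov : V ≤ ⨆ i, U i) {C : CohTop.Ab X → Prop}
    (hP : SectionClass U C) (F : CohTop.Ab X) (hF : C F) (p : ℕ) :
    Nonempty (((natCx F.obj U).homology p : AddCommGrpCat.{u}) ≃+ CohTop.HU F p V) := by
  let sec : ∀ G : CohTop.Ab X,
      Ext (CohCx.freeSheaf (Opens.grothendieckTopology X) V) G 0 ≃+ G.obj.obj (op V) := fun G =>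
    Ext.addEquiv₀.trans (SiteBase.secEquiv (Opens.grothendieckTopology X) V G)
  let e0 : ∀ G : CohTop.Ab X,
      Ext (CohCx.freeSheaf (Opens.grothendieckTopology X) V) G 0 ≃+ (natCx G.obj U).homology 0 := fun G =>
    (sec G).trans (AddEquiv.ofBijective (vToH0 U hle G.obj).hom (vToH0_bijective U G hle hcov))
  change Nonempty (_ ≃+ Ext (CohCx.freeSheaf (Opens.grothendieckTopology X) V) F p)
  induction p using Nat.strong_induction_on generalizing F with
  | _ p ih =>
    match p with
    | 0 => exact ⟨(e0 F).symm⟩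
    | m + 1 =>
      let T : ShortComplex (CohTop.Ab X) :=
        ShortComplex.mk (Injective.ι F) (cokernel.π (Injective.ι F)) (cokernel.condition _)
      have hT : T.ShortExact :=
        { exact := ShortComplex.exact_of_g_is_cokernel _ (cokernelIsCokernel _) }
      have hinj : Injective T.X₂ := Injective.injective_under F
      have hC := cochainSC_shortExact U hT (hP.lift hT hF)
      have hz : ∀ k, IsZero ((natCx T.X₂.obj U).homology (k + 1)) := fun k =>
        @isZero_natCx_homology_of_injective _ _ U T.X₂ hinj k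
      have hv : ∀ k, Subsingleton (Ext (CohCx.freeSheaf (Opens.grothendieckTopology X) V) T.X₂ (k + 1)) :=
        fun k => SiteBase.subsingleton_HU_of_injective T.X₂ V k
      have hij : (ComplexShape.up ℕ).Rel m (m + 1) := rfl
      have hsurj : Function.Surjective (hC.δ m (m + 1) hij) := fun x => by
        have h := (ShortComplex.ab_exact_iff _).1 (hC.homology_exact₁ m (m + 1) hij) x
          (@Subsingleton.elim _ (AddCommGrpCat.subsingleton_of_isZero (hz m)) _ _)
        exact h
      have hker : ∀ y, hC.δ m (m + 1) hij y = 0 ↔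
          ∃ z, HomologicalComplex.homologyMap (natCxMap U T.g.hom) m z = y := fun y => by
        refine ⟨fun h => (ShortComplex.ab_exact_iff _).1 (hC.homology_exact₃ m (m + 1) hij) y h, ?_⟩
        rintro ⟨z, rfl⟩
        exact ConcreteCategory.congr_hom (hC.comp_δ m (m + 1) hij) z
      match m with
      | 0 =>
        have hn : ∀ y : Ext (CohCx.freeSheaf (Opens.grothendieckTopology X) V) T.X₂ 0,
            HomologicalComplex.homologyMap (natCxMap U T.g.hom) 0 (e0 T.X₂ y) =
              e0 T.X₃ (y.comp (Ext.mk₀ T.g) (add_zero 0)) := fun y => by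
          obtain ⟨φ, rfl⟩ := (Ext.mk₀_bijective _ _).2 y
          refine (ConcreteCategory.congr_hom (vToH0_naturality U hle T.g.hom) _).trans
            (congrArg (vToH0 U hle T.X₃.obj) ?_)
          show T.g.hom.app (op V) (SiteBase.secEquiv _ V T.X₂ (Ext.addEquiv₀ (Ext.mk₀ φ))) =
            SiteBase.secEquiv _ V T.X₃ (Ext.addEquiv₀ ((Ext.mk₀ φ).comp (Ext.mk₀ T.g) (add_zero 0)))
          rw [Ext.mk₀_comp_mk₀, Ext.addEquiv₀.eq_symm_apply.1 (rfl : Ext.mk₀ φ = Ext.addEquiv₀.symm φ),
            Ext.addEquiv₀.eq_symm_apply.1 (rfl : Ext.mk₀ (φ ≫ T.g) = Ext.addEquiv₀.symm _),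
            SiteBase.secEquiv_comp]
        refine nonempty_addEquiv_of_surjective ((hC.δ 0 1 hij).hom.comp (e0 T.X₃).toAddMonoidHom)
          (connectingU hT 0 V) (hsurj.comp (e0 T.X₃).surjective) (connectingU_surjective hT 0 (hv 0))
          fun x => ?_
        rw [connectingU_eq_zero_iff]
        refine Iff.trans (hker (e0 T.X₃ x)) ?_
        exact ⟨fun ⟨z, hz⟩ => ⟨(e0 T.X₂).symm z, (e0 T.X₃).injective <| by
          rw [← hn, AddEquiv.apply_symm_apply]; exact hz⟩,
          fun ⟨y, hy⟩ => ⟨e0 T.X₂ y, by rw [hn, hy]⟩⟩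
      | m + 1 =>
        obtain ⟨e⟩ := ih (m + 1) (Nat.lt_succ_self _) T.X₃ (hP.quot hT hF hinj)
        have hinj' : Function.Injective (hC.δ (m + 1) (m + 2) hij) :=
          (injective_iff_map_eq_zero (hC.δ (m + 1) (m + 2) hij).hom).2 fun y hy => by
            obtain ⟨z, rfl⟩ := (hker y).1 hy
            rw [@Subsingleton.elim _ (AddCommGrpCat.subsingleton_of_isZero (hz m)) z 0, map_zero]; rfl
        have hbij : Function.Bijective (connectingU hT (m + 1) V) := by
          refine ⟨(injective_iff_map_eq_zero _).2 fun x hx => ?_, connectingU_surjective hT (m + 1) (hv _)⟩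
          obtain ⟨y, rfl⟩ := (connectingU_eq_zero_iff hT _ x).1 hx
          haveI := hv m
          rw [Subsingleton.elim y 0, Ext.zero_comp]
        exact ⟨((AddEquiv.ofBijective (hC.δ (m + 1) (m + 2) hij).hom ⟨hinj', hsurj⟩).symm.trans
          e).trans (AddEquiv.ofBijective _ hbij)⟩

end Groth.Agent.QCoh.Ab
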